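import Groth.Agent.BlowRegLib.PosA
import Groth.Agent.VBExtLib.Main
import Groth.Agent.AffLiftLib.Main
import Groth.Agent.KFlatLib.QCohPull
import Groth.Agent.KFlatLib.PerfectPull
import Groth.Agent.SweepSix.ConormalSpec
import Groth.Agent.FinLFAnnLib.Main
import Groth.Agent.S2297
import Groth.Agent.S0217
import Groth.Agent.S0440
import Groth.Agent.CurveAmpLib.Integral

/-!
# Vector bundles lift along nilpotent immersions into schemes covered by two affine opens
-/

set_option autoImplicit false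
set_option linter.style.haveILetI false
set_option linter.unusedSectionVars false
set_option backward.isDefEq.respectTransparency false
set_option maxHeartbeats 1000000
set_option synthInstance.maxHeartbeats 400000

universe u

open CategoryTheory CategoryTheory.Limits AlgebraicGeometry TopologicalSpace

noncomputable section

namespace TwoAffLiftLib

/-- A separated scheme covered by two affine opens. -/
def Two (X : Scheme.{u}) : Prop :=
  X.IsSeparated ∧ ∃ W : Fin 2 → X.Opens, (∀ l, IsAffineOpen (W l)) ∧ ⨆ l, W l = ⊤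

theorem two_of_affineHom {Y X : Scheme.{u}} (f : Y ⟶ X) [IsAffineHom f] (h : Two X) : Two Y := by
  obtain ⟨hs, W, hW, hc⟩ := h
  haveI := hs
  refine ⟨⟨by rw [← terminal.comp_from f]; infer_instance⟩, fun l => f ⁻¹ᵁ W l, fun l => (hW l).preimage f, ?_⟩
  rw [← Scheme.Hom.preimage_iSup, hc, Scheme.Hom.preimage_top]

theorem subsingleton_ext_two {X : Scheme.{u}} (h : Two X) [HasExt.{u} X.Modules] {F : X.Modules}
    (hF : FlatMod.IsFinLocFree F) (G : X.Modules) [Coh.IsQCoh G] : Subsingleton (Abelian.Ext.{u} F G 2) := by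
  obtain ⟨hs, W, hW, hc⟩ := h
  haveI := hs
  obtain ⟨e⟩ := PnDualLib.nonempty_ext_homMod_add hF 2 G
  haveI : Coh.IsQCoh (CohCmpLib.homMod F G) := BoxSurjLib.isQCoh_homMod hF
  haveI : Subsingleton (Coh.HH X (CohCmpLib.homMod F G) 2) := BlowRegLib.van_of_two W hW hc _ 2 le_rfl
  haveI : Subsingleton (CohCmpLib.HC X (CohCmpLib.homMod F G) 2) := ‹_›
  exact e.toEquiv.subsingleton

theorem exists_lift_subscheme {X : Scheme.{u}} (I : X.IdealSheafData) (hI : I ^ 2 = ⊥) (h : Two X)
    (E₀ : I.subscheme.Modules) (hE₀ : FlatMod.IsFinLocFree E₀) :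
    ∃ E : X.Modules, FlatMod.IsFinLocFree E ∧ Nonempty ((Scheme.Modules.pullback I.subschemeι).obj E ≅ E₀) := by
  haveI : EnoughInjectives I.subscheme.Modules :=
    ModSiteLib.sheafOfModules_enoughInjectives (R := I.subscheme.ringCatSheaf)
  haveI : HasExt.{u} I.subscheme.Modules := hasExt_of_enoughInjectives.{u} _
  haveI := CycKSuppLib.isIso_counit I.subschemeι E₀
  haveI := KFlatLib.isIso_pullθ I.subschemeι (ClSub.idealMod I) ((Scheme.Modules.pushforward I.subschemeι).obj E₀)
  let T := CohB1.tensorMod ((Scheme.Modules.pullback I.subschemeι).obj (ClSub.idealMod I)) E₀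
  let c : VBExtLib.coef I E₀ ≅ T :=
    asIso (KFlatLib.pullθ I.subschemeι (ClSub.idealMod I) ((Scheme.Modules.pushforward I.subschemeι).obj E₀)) ≪≫
      ((DCoh.tensorBi (X := I.subscheme)).obj _).mapIso
        (asIso ((Scheme.Modules.pullbackPushforwardAdjunction I.subschemeι).counit.app E₀))
  haveI : Coh.IsQCoh (ClSub.idealMod I) := SweepSix.ConormalSpec.isQCoh_idealMod I
  haveI : Coh.IsQCoh ((Scheme.Modules.pullback I.subschemeι).obj (ClSub.idealMod I)) :=
    KFlatLib.isQCoh_pullback _ _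
  haveI : Coh.IsQCoh E₀ := FinLFAnn.isQCoh_of_isFinLocFree hE₀
  haveI : Coh.IsQCoh T := (Groth.Agent.S2297.result _ _).1
  haveI : Coh.IsQCoh (VBExtLib.coef I E₀) := QCohLib.isQCoh_of_iso c.symm
  haveI := SmDefLib.surjective_subschemeι hI
  exact VBExtLib.exists_lift I hI hE₀ (subsingleton_ext_two (two_of_affineHom I.subschemeι h) hE₀ _)

theorem exists_lift_sq {Z X : Scheme.{u}} (i : Z ⟶ X) [IsClosedImmersion i] (hI : i.ker ^ 2 = ⊥) (h : Two X)
    (E₀ : Z.Modules) (hE₀ : FlatMod.IsFinLocFree E₀) :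
    ∃ E : X.Modules, FlatMod.IsFinLocFree E ∧ Nonempty ((Scheme.Modules.pullback i).obj E ≅ E₀) := by
  let t := i.toImage
  obtain ⟨E, hE, ⟨e⟩⟩ := exists_lift_subscheme i.ker hI h ((Scheme.Modules.pullback (inv t)).obj E₀)
    (KFlatLib.isFinLocFree_pull _ hE₀)
  refine ⟨E, hE, ⟨?_⟩⟩
  exact (Scheme.Modules.pullbackCongr (i.toImage_imageι).symm).app E ≪≫
    ((Scheme.Modules.pullbackComp t i.imageι).app E).symm ≪≫ (Scheme.Modules.pullback t).mapIso e ≪≫
    (Scheme.Modules.pullbackComp t (inv t)).app E₀ ≪≫ (Scheme.Modules.pullbackCongr (IsIso.hom_inv_id t)).app E₀ ≪≫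
    (Scheme.Modules.pullbackId Z).app E₀

theorem exists_lift_pow (m : ℕ) : ∀ {Z X : Scheme.{u}} (i : Z ⟶ X) [IsClosedImmersion i],
    i.ker ^ (2 ^ m) = ⊥ → Two X → ∀ E₀ : Z.Modules, FlatMod.IsFinLocFree E₀ →
      ∃ E : X.Modules, FlatMod.IsFinLocFree E ∧ Nonempty ((Scheme.Modules.pullback i).obj E ≅ E₀) := by
  induction m with
  | zero =>
    intro Z X i _ hI h E₀ hE₀
    rw [pow_zero, pow_one] at hI
    refine exists_lift_sq i ?_ h E₀ hE₀
    ext U : 2
    rw [hI]
    simp
  | succ m ih =>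
    intro Z X i _ hI h E₀ hE₀
    let J := i.ker ^ 2
    have hle : J ≤ i.ker := fun U => by
      simp only [J, Scheme.IdealSheafData.ideal_pow, Pi.pow_apply]
      exact Ideal.pow_le_self two_ne_zero
    let k : Z ⟶ J.subscheme := i.toImage ≫ Scheme.IdealSheafData.inclusion hle
    have hk : k ≫ J.subschemeι = i := by simp [k]
    haveI : IsClosedImmersion (k ≫ J.subschemeι) := by rw [hk]; infer_instance
    haveI : IsClosedImmersion k := IsClosedImmersion.of_comp k J.subschemeι
    have hkI : IsPullback (𝟙 Z) k i J.subschemeι := IsPullback.of_horiz_isIso_mono ⟨by rw [Category.id_comp, hk]⟩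
    have hker : k.ker ^ 2 = ⊥ := by
      have h : k.ker = i.ker.comap J.subschemeι := FComplLib.ker_of_isPullback hkI.flip
      rw [h, ← FComplLib.comap_pow_succ J.subschemeι i.ker 1]
      show J.comap J.subschemeι = ⊥
      have h2 := FComplLib.ker_of_isPullback (IsKernelPair.id_of_mono J.subschemeι)
      rw [J.ker_subschemeι] at h2
      rw [← h2]
      simp
    obtain ⟨E₁, hE₁, ⟨e₁⟩⟩ := exists_lift_sq k hker (two_of_affineHom J.subschemeι h) E₀ hE₀
    obtain ⟨E, hE, ⟨e⟩⟩ := ih J.subschemeι (by rw [J.ker_subschemeι, ← pow_mul, ← pow_succ']; exact hI) h E₁ hE₁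
    exact ⟨E, hE, ⟨(Scheme.Modules.pullbackCongr hk.symm).app E ≪≫
      ((Scheme.Modules.pullbackComp k J.subschemeι).app E).symm ≪≫ (Scheme.Modules.pullback k).mapIso e ≪≫ e₁⟩⟩

theorem pow_eq_bot_of_le {X : Scheme.{u}} {I J : X.IdealSheafData} (h : I ≤ J) {n m : ℕ} (hm : n ≤ m)
    (hJ : J ^ n = ⊥) : I ^ m = ⊥ := by
  refine eq_bot_iff.2 fun U => ?_
  have h1 : (J ^ n).ideal U = (⊥ : X.IdealSheafData).ideal U := by rw [hJ]
  simp only [Scheme.IdealSheafData.ideal_pow, Pi.pow_apply] at h1 ⊢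
  exact h1 ▸ (Ideal.pow_right_mono (h U) m).trans (Ideal.pow_le_pow_right hm)

theorem surjective_of_ker_pow {C X : Scheme.{u}} (i : C ⟶ X) [IsClosedImmersion i] {n : ℕ}
    (hI : i.ker ^ n = ⊥) : Function.Surjective i := by
  intro x
  have hx : x ∈ (i.ker.support : Set X) := by
    rcases Nat.eq_zero_or_pos n with rfl | hn
    · have h1 : (i.ker ^ 0).support = (⊥ : X.IdealSheafData).support := congrArg _ hI
      rw [pow_zero, show (1 : X.IdealSheafData) = ⊤ from rfl, Scheme.IdealSheafData.support_top,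
        Scheme.IdealSheafData.support_bot] at h1
      exact absurd (show x ∈ (⊥ : Closeds X) from h1 ▸ trivial) id
    · rw [← Scheme.IdealSheafData.support_pow _ n hn.ne', hI, Scheme.IdealSheafData.support_bot]
      trivial
  rw [Scheme.Hom.support_ker, i.isClosedEmbedding.isClosed_range.closure_eq] at hx
  exact hx

/-- Two affine opens of a homeomorphic closed subscheme give two affine opens. -/
theorem two_of_surjective {C X : Scheme.{u}} (i : C ⟶ X) [IsClosedImmersion i] (hi : Function.Surjective i)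
    [X.IsSeparated] (hC : Two C) : Two X := by
  obtain ⟨-, W, hW, hc⟩ := hC
  have ho : ∀ l, IsOpen (i '' (W l : Set C)) := fun l => by
    obtain ⟨O, hO, hOW⟩ := i.isClosedEmbedding.isInducing.isOpen_iff.1 (W l).2
    show IsOpen (i '' (↑(W l) : Set C))
    rwa [show (↑(W l) : Set C) = i ⁻¹' O from hOW.symm, Set.image_preimage_eq _ hi]
  let V : Fin 2 → X.Opens := fun l => ⟨i '' (W l : Set C), ho l⟩
  have hpre : ∀ l, i ⁻¹ᵁ V l = W l := fun l =>
    Opens.ext (Set.preimage_image_eq _ i.isClosedEmbedding.injective)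
  refine ⟨inferInstance, V, fun l => ?_, ?_⟩
  · haveI : IsAffine (i ⁻¹ᵁ V l).toScheme := (hpre l).symm ▸ hW l
    exact Groth.Agent.S0440.result (i ∣_ V l) fun y => by
      obtain ⟨c, hc⟩ := hi y.1
      exact ⟨⟨c, show i c ∈ V l from hc ▸ y.2⟩, Subtype.ext ((morphismRestrict_base_coe i _ _).trans hc)⟩
  · refine eq_top_iff.2 fun x _ => ?_
    obtain ⟨c, rfl⟩ := hi x
    obtain ⟨l, hl⟩ := Opens.mem_iSup.1 (show c ∈ ⨆ l, W l from hc ▸ trivial)
    exact Opens.mem_iSup.2 ⟨l, c, hl, rfl⟩

theorem finite_of_isClosed_ne_univ {T : Type u} [TopologicalSpace T] [NoetherianSpace T] [IrreducibleSpace T]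
    [T0Space T] [QuasiSober T] (hdim : topologicalKrullDim T ≤ 1) {Z : Set T} (hZ : IsClosed Z)
    (hne : Z ≠ Set.univ) : Z.Finite := by
  obtain ⟨S, hSf, hSc, hSi, hS⟩ := NoetherianSpace.exists_finite_set_isClosed_irreducible hZ
  rw [hS]
  refine Set.Finite.sUnion hSf fun c hc => Set.Subsingleton.finite ?_
  have hcne : c ≠ Set.univ := fun h => hne (Set.eq_univ_of_univ_subset (hS ▸ h ▸ Set.subset_sUnion_of_mem hc))
  obtain ⟨η, hη⟩ := QuasiSober.sober (hSi c hc) (hSc c hc)
  suffices h : ∀ y ∈ c, y = η from fun a ha b hb => (h a ha).trans (h b hb).symm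
  intro y hy
  by_contra hne'
  let cy : IrreducibleCloseds T := ⟨closure {y}, isIrreducible_singleton.closure, isClosed_closure⟩
  let cc : IrreducibleCloseds T := ⟨c, hSi c hc, hSc c hc⟩
  let ct : IrreducibleCloseds T := ⟨Set.univ, IrreducibleSpace.isIrreducible_univ T, isClosed_univ⟩
  have h1 : cy < cc := by
    refine lt_of_le_of_ne (closure_minimal (Set.singleton_subset_iff.2 hy) (hSc c hc)) fun he => hne' ?_
    have h3 : IsGenericPoint y c := congrArg IrreducibleCloseds.carrier he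
    exact h3.eq hη
  have h2 : cc < ct :=
    lt_of_le_of_ne (Set.subset_univ c) fun he => hcne (congrArg IrreducibleCloseds.carrier he)
  have h3 := (Order.LTSeries.length_le_krullDim
    ((((RelSeries.singleton _ cy).snoc cc h1).snoc ct (by simpa using h2)))).trans hdim
  norm_num at h3

/-- A separated integral Noetherian scheme of dimension at most one is covered by two affine opens. -/
theorem two_curve {C : Scheme.{u}} [IsIntegral C] [IsNoetherian C] [C.IsSeparated]
    (hdim : topologicalKrullDim C ≤ 1) : Two C := by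
  classical
  obtain ⟨x⟩ : Nonempty C := inferInstance
  obtain ⟨U, hU, hxU, -⟩ := exists_isAffineOpen_mem_and_subset (x := x) (U := ⊤) trivial
  have hfin : ((U : Set C)ᶜ).Finite := finite_of_isClosed_ne_univ hdim U.2.isClosed_compl
    fun h => (h ▸ Set.mem_univ x : x ∈ (U : Set C)ᶜ) hxU
  obtain ⟨V, hV, hVs⟩ := Groth.Agent.S0217.result C
    (fun O _ => NoetherianSpace.finite_irreducibleComponents) hfin.toFinset
    fun y _ => ⟨inferInstance, by exact_mod_cast (Ring.krullDimLE_iff.mp (CurveAmpLib.krullDimLE_stalk hdim y))⟩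
  refine ⟨inferInstance, ![U, V], fun l => by fin_cases l; exacts [hU, hV], eq_top_iff.2 fun y _ => ?_⟩
  by_cases hy : y ∈ U
  · exact Opens.mem_iSup.2 ⟨0, hy⟩
  · exact Opens.mem_iSup.2 ⟨1, hVs y (hfin.mem_toFinset.2 hy)⟩

end TwoAffLiftLib
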